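import Mathlib
import Cfsg.Agent.H34.PerfThree
import Cfsg.Agent.H704.S8.Defs

/-!
# S4908, SOLV: numerical engine (Isaacs 12.3 and 12.4) (helper497)

`solv_of_chk` : if `D` is contained in the list `Adm`, contains the list `K`, and the boolean check `chk P B Adm K` holds
(`P` = primes, `B` = a bound for the members of `Adm`), then no solvable group has the degree set `D`.
-/

set_option autoImplicit false

namespace Cfsg.Agent.H497.S8

open Cfsg Cfsg.Agent.H681 Cfsg.Agent.H681.DegBasic Cfsg.Agent.H34.Perf3 Cfsg.Agent.Characters.Core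

universe u

/-- The dichotomy in numerical form. -/
theorem dich {G : Type*} [Group G] [Finite G] (hG : ⁅commutator G, commutator G⁆ ≠ commutator G) :
    ∃ p f : ℕ, p.Prime ∧ 1 < f ∧ f ∈ charDegrees G ∧
      (((∃ b, f = p ^ b) ∧ ∀ n ∈ charDegrees G, p ∣ n ∨ f * n ∈ charDegrees G) ∨
        (f.Coprime p ∧ ∃ m : ℕ, 0 < m ∧ f < p ^ m ∧ ∀ n ∈ charDegrees G, p ^ m ∣ n ^ 2 ∨
          ∃ d ∈ charDegrees G, f ∣ d ∧ n ∣ d ∧ d ∣ f * n)) := by
  classical
  have := Fintype.ofFinite G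
  obtain ⟨p, f, hp, hf, h⟩ := cases_of_not_perfect hG
  rcases h with ⟨h1, h2⟩ | ⟨h1, N, hN, hNf, m, hm, hfm, hc⟩
  · refine ⟨p, f, hp, hf, ?_, Or.inl ⟨h1, h2⟩⟩
    rcases h2 1 one_mem with h | h
    · exact absurd (Nat.dvd_one.1 h) hp.ne_one
    · rwa [mul_one] at h
  · have := Fintype.ofFinite N
    have key : ∀ n ∈ charDegrees G, p ^ m ∣ n ^ 2 ∨ ∃ d ∈ charDegrees G, f ∣ d ∧ n ∣ d ∧ d ∣ f * n := by
      intro n hn
      obtain ⟨χ, hχ, hχn⟩ := mem_charDegrees.1 hn
      obtain ⟨ψ, d, hψ, hψd, -, hd1, hd2⟩ := exists_constituent N hχ hχn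
      rw [hNf] at hd2
      rcases hc ψ hψ d hψd with h | h
      · exact Or.inl (h.trans (pow_dvd_pow_of_dvd hd1 2))
      · refine Or.inr ⟨f * d, h, Dvd.intro _ rfl, ?_, Nat.mul_dvd_mul_left f hd1⟩
        have := Nat.mul_dvd_mul_right hd2 d
        rwa [Nat.div_mul_cancel hd1] at this
    refine ⟨p, f, hp, hf, ?_, Or.inr ⟨h1, m, hm, hfm, key⟩⟩
    rcases key 1 one_mem with h | ⟨d, hd, h2, -, h3⟩
    · rw [one_pow] at h
      have := Nat.le_of_dvd one_pos h
      omega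
    · rw [mul_one] at h3
      rwa [← Nat.dvd_antisymm h3 h2] at *

/-- is there a member `d` of `Adm` with `lcm f n ∣ d ∣ f n`? -/
def ext (B : ℕ) (Adm : List ℕ) (f n : ℕ) : Bool :=
  if B < Nat.lcm f n then false
  else Adm.any (fun d => d % f == 0 && (d % n == 0 && (f * n) % d == 0))

/-- the Frobenius case is impossible for `f` -/
def frobOK (B : ℕ) (P Adm K : List ℕ) (f : ℕ) : Bool :=
  K.any (fun n => !ext B Adm f n) &&
    P.all (fun p => f % p == 0 || K.any (fun n => !ext B Adm f n && Nat.ble (Nat.gcd (n ^ 2) (p ^ 256)) f))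

/-- the prime power case is impossible for `f` -/
def ppOK (B : ℕ) (P Adm K : List ℕ) (f : ℕ) : Bool :=
  P.all (fun p => !((p ^ 128) % f == 0) ||
    K.any (fun n => !(n % p == 0) && (Nat.blt B (f * n) || !(Adm.any (fun d => d == f * n)))))

/-- the whole check -/
def chk (B : ℕ) (P Adm K : List ℕ) : Bool :=
  Adm.all (fun f => Nat.ble f B && (Nat.ble f 1 || (frobOK B P Adm K f && ppOK B P Adm K f))) &&
    (K.any (fun n => Nat.blt 1 n) &&
      (Adm ++ K).all (fun d => Nat.blt 0 d && (Nat.blt d (2 ^ 128) && (P.prod ^ 128) % d == 0)))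

theorem ext_of {B : ℕ} {Adm : List ℕ} (hB : ∀ d ∈ Adm, d ≤ B) {f n d : ℕ} (hd : d ∈ Adm) (hd0 : 0 < d) (h1 : f ∣ d)
    (h2 : n ∣ d) (h3 : d ∣ f * n) : ext B Adm f n = true := by
  unfold ext
  have h4 : Nat.lcm f n ≤ B := (Nat.le_of_dvd hd0 (Nat.lcm_dvd h1 h2)).trans (hB d hd)
  rw [if_neg (by omega), List.any_eq_true]
  refine ⟨d, hd, ?_⟩
  simp only [Bool.and_eq_true, beq_iff_eq]
  exact ⟨Nat.mod_eq_zero_of_dvd h1, Nat.mod_eq_zero_of_dvd h2, Nat.mod_eq_zero_of_dvd h3⟩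

theorem dvd_pow_big {p a E f : ℕ} (h1 : f = p ^ a) (h2 : f < 2 ^ E) (hp : 2 ≤ p) : p ^ E % f = 0 := by
  subst h1
  apply Nat.mod_eq_zero_of_dvd
  apply pow_dvd_pow
  have h3 : 2 ^ a < 2 ^ E := (Nat.pow_le_pow_left hp a).trans_lt h2
  exact ((Nat.pow_lt_pow_iff_right (by norm_num)).1 h3).le

/-- **The engine**: the derived subgroup is perfect. -/
theorem perf_of_chk {G : Type*} [Group G] [Finite G] (B : ℕ) (P Adm K : List ℕ) (hP : ∀ p ∈ P, p.Prime)
    (hAdm : ∀ d ∈ charDegrees G, d ∈ Adm) (hK : ∀ n ∈ K, n ∈ charDegrees G) (hchk : chk B P Adm K = true) :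
    ⁅commutator G, commutator G⁆ = commutator G := by
  classical
  by_contra hcon
  obtain ⟨p, f, hp, hf, hfD, h⟩ := dich hcon
  unfold chk at hchk
  rw [Bool.and_eq_true, Bool.and_eq_true] at hchk
  obtain ⟨hA, -, hS⟩ := hchk
  rw [List.all_eq_true] at hA hS
  have hB : ∀ d ∈ Adm, d ≤ B := by
    intro d hd
    have := hA d hd
    rw [Bool.and_eq_true] at this
    exact Nat.le_of_ble_eq_true this.1
  have hS' : ∀ d ∈ Adm ++ K, 0 < d ∧ d < 2 ^ 128 ∧ d ∣ P.prod ^ 128 := by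
    intro d hd
    have := hS d hd
    rw [Bool.and_eq_true, Bool.and_eq_true] at this
    obtain ⟨h1, h2, h3⟩ := this
    refine ⟨?_, ?_, Nat.dvd_of_mod_eq_zero (by simpa using h3)⟩
    · exact Nat.le_of_ble_eq_true h1
    · exact Nat.le_of_ble_eq_true h2
  have hPmem : ∀ q : ℕ, q.Prime → ∀ d ∈ Adm ++ K, q ∣ d → q ∈ P := by
    intro q hq d hd hqd
    have h1 : q ∣ P.prod := hq.dvd_of_dvd_pow (hqd.trans (hS' d hd).2.2)
    obtain ⟨a, ha, hqa⟩ := (hq.prime.dvd_prod_iff).1 h1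
    rwa [(Nat.prime_dvd_prime_iff_eq hq (hP a ha)).1 hqa]
  have hfA := hAdm f hfD
  have hf' := hA f hfA
  rw [Bool.and_eq_true, Bool.or_eq_true, Bool.and_eq_true] at hf'
  obtain ⟨-, hf'⟩ := hf'
  have hf'' : frobOK B P Adm K f = true ∧ ppOK B P Adm K f = true := by
    rcases hf' with h1 | h1
    · have := Nat.le_of_ble_eq_true h1
      omega
    · exact h1
  obtain ⟨hfr, hpp⟩ := hf''
  have hbig := hS' f (List.mem_append_left _ hfA)
  rcases h with ⟨⟨b, hb⟩, h⟩ | ⟨hcop, m, hm, hfm, h⟩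
  · -- the prime power case
    have hpf : p ∣ f := by
      rw [hb]
      apply dvd_pow_self
      rintro rfl
      rw [pow_zero] at hb
      omega
    have hpP : p ∈ P := hPmem p hp f (List.mem_append_left _ hfA) hpf
    unfold ppOK at hpp
    rw [List.all_eq_true] at hpp
    have h1 := hpp p hpP
    rw [dvd_pow_big hb hbig.2.1 hp.two_le, Bool.or_eq_true, List.any_eq_true] at h1
    rcases h1 with h1 | ⟨n, hn, h1⟩
    · simp at h1
    · rw [Bool.and_eq_true] at h1
      obtain ⟨h2, h3⟩ := h1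
      rcases h n (hK n hn) with h4 | h4
      · have h5 := Nat.mod_eq_zero_of_dvd h4
        rw [h5] at h2
        simp at h2
      · have h5 := hAdm _ h4
        rw [Bool.or_eq_true] at h3
        rcases h3 with h3 | h3
        · have h6 := Nat.le_of_ble_eq_true h3
          have h7 := hB _ h5
          omega
        · rw [Bool.not_eq_true', List.any_eq_false] at h3
          exact h3 _ h5 (by simp)
  · -- the Frobenius case
    unfold frobOK at hfr
    rw [Bool.and_eq_true, List.any_eq_true, List.all_eq_true] at hfr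
    obtain ⟨⟨n₀, hn₀, hext₀⟩, hfr⟩ := hfr
    have hdv : ∀ n ∈ K, (!ext B Adm f n) = true → p ^ m ∣ n ^ 2 := by
      intro n hn hext
      rcases h n (hK n hn) with h1 | ⟨d, hd, h1, h2, h3⟩
      · exact h1
      · have hdA := hAdm d hd
        have h4 := ext_of hB hdA (hS' d (List.mem_append_left _ hdA)).1 h1 h2 h3
        rw [h4] at hext
        simp at hext
    have hpn : p ∣ n₀ := hp.dvd_of_dvd_pow ((dvd_pow_self p hm.ne').trans (hdv n₀ hn₀ hext₀))
    have hpP : p ∈ P := hPmem p hp n₀ (List.mem_append_right _ hn₀) hpn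
    have h1 := hfr p hpP
    rw [Bool.or_eq_true, List.any_eq_true] at h1
    rcases h1 with h1 | ⟨n, hn, h1⟩
    · have h2 : p ∣ f := Nat.dvd_of_mod_eq_zero (by simpa using h1)
      exact hp.one_lt.ne' (Nat.eq_one_of_dvd_coprimes hcop h2 dvd_rfl)
    · rw [Bool.and_eq_true] at h1
      have h2 := hdv n hn h1.1
      have h3 := Nat.le_of_ble_eq_true h1.2
      have h4 := hS' n (List.mem_append_right _ hn)
      have h5 : p ^ m ∣ p ^ 256 := by
        have h6 : p ^ m ≤ n ^ 2 := Nat.le_of_dvd (pow_pos h4.1 2) h2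
        have h7 : n ^ 2 < 2 ^ 256 := by
          calc n ^ 2 < (2 ^ 128) ^ 2 := Nat.pow_lt_pow_left h4.2.1 (by norm_num)
            _ = 2 ^ 256 := by norm_num
        exact Nat.dvd_of_mod_eq_zero (dvd_pow_big rfl (h6.trans_lt h7) hp.two_le)
      have h6 : p ^ m ≤ Nat.gcd (n ^ 2) (p ^ 256) :=
        Nat.le_of_dvd (Nat.gcd_pos_of_pos_left _ (pow_pos h4.1 2)) (Nat.dvd_gcd h2 h5)
      omega

/-- **SOLV from the check.** -/
theorem solv_of_chk {D : Set ℕ} (B : ℕ) (P Adm K : List ℕ) (hP : ∀ p ∈ P, p.Prime)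
    (hAdm : ∀ d ∈ D, d ∈ Adm) (hK : ∀ n ∈ K, n ∈ D) (hchk : chk B P Adm K = true) : H704.S8.Solv.{u} D := by
  classical
  intro G _ _ hsol hD
  subst hD
  have hperf := perf_of_chk B P Adm K hP hAdm hK hchk
  -- a solvable group with perfect derived subgroup is abelian
  have h1 : commutator G = ⊥ := by
    obtain ⟨n, hn⟩ := hsol.solvable
    have h2 : ∀ k, commutator G ≤ derivedSeries G k := by
      intro k
      induction k with
      | zero => exact le_top
      | succ k ih =>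
        rw [derivedSeries_succ]
        calc commutator G = ⁅commutator G, commutator G⁆ := hperf.symm
          _ ≤ ⁅derivedSeries G k, derivedSeries G k⁆ := Subgroup.commutator_mono ih ih
    exact le_bot_iff.1 ((h2 n).trans hn.le)
  unfold chk at hchk
  rw [Bool.and_eq_true, Bool.and_eq_true, List.any_eq_true] at hchk
  obtain ⟨-, ⟨n, hn, hn1⟩, -⟩ := hchk
  have hn2 : 1 < n := Nat.le_of_ble_eq_true hn1
  obtain ⟨χ, hχ, hχn⟩ := mem_charDegrees.1 (hK n hn)
  have hcomm : ∀ a b : G, a * b = b * a := by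
    intro a b
    have h3 := (Subgroup.commutator_eq_bot_iff_le_centralizer (H₁ := (⊤ : Subgroup G)) (H₂ := ⊤)).1 h1
    exact (Subgroup.mem_centralizer_iff.1 (h3 (Subgroup.mem_top a)) b (Subgroup.mem_top b)).symm
  have h3 := Cfsg.Agent.S0187.result.1 hcomm ⟨χ, hχ⟩
  have h4 : ((n : ℕ) : ℂ) = 1 := by
    rw [← hχn]
    exact h3
  have h5 : n = 1 := by exact_mod_cast h4
  omega

end Cfsg.Agent.H497.S8
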