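import Mathlib
import Cfsg.Agent.H34.PerfThree
import Cfsg.Agent.H704.S8.Num
import Cfsg.Agent.H497.S8.SolvEng

/-!
# S4908, SOLV: strong numerical engines (helper497)

* `cases_of_not_perfect2` : Isaacs 12.3 and 12.4, strong form, with `f ∣ p ^ m - 1`;
* `dich2` : numerical dichotomy;
* `solv_of_numAll` : `H704.S8.NumAll D → H704.S8.Solv D`;
* `solv_of_chk2` : list check, every entry of `K` is a list of alternatives (`[n]` or `[n, 2 * n]`).
-/

set_option autoImplicit false

namespace Cfsg.Agent.H497.S8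

open Cfsg Cfsg.Agent.Characters.Core Cfsg.Agent.H681 Cfsg.Agent.H681.DegBasic Cfsg.Agent.H34 Cfsg.Agent.H34.Perf3

universe u

/-- The index of a Frobenius kernel divides its order minus one. -/
theorem index_dvd {Q : Type*} [Group Q] [Finite Q] (V : Subgroup Q) [hV : V.Normal]
    (hab : ∀ a ∈ V, ∀ b ∈ V, a * b = b * a)
    (hfpf : ∀ g, g ∉ V → ∀ v ∈ V, g * v = v * g → v = 1) : V.index ∣ Nat.card V - 1 := by
  classical
  let act : MulAction Q {v : V // v ≠ 1} :=
    { smul := fun g v => ⟨⟨g * v.1 * g⁻¹, hV.conj_mem v.1 v.1.2 g⟩, by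
        intro h
        apply v.2
        have h1 : g * (v.1 : Q) * g⁻¹ = 1 := congrArg Subtype.val h
        apply Subtype.ext
        rw [Subgroup.coe_one]
        have h2 : (v.1 : Q) = g⁻¹ * (g * v.1 * g⁻¹) * g := by group
        rw [h2, h1]
        group⟩
      one_smul := by
        intro v
        apply Subtype.ext
        apply Subtype.ext
        show (1 : Q) * v.1 * (1 : Q)⁻¹ = v.1
        group
      mul_smul := by
        intro g h v
        apply Subtype.ext
        apply Subtype.ext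
        show g * h * v.1 * (g * h)⁻¹ = g * (h * v.1 * h⁻¹) * g⁻¹
        group }
  have hfin : Finite {v : V // v ≠ 1} := inferInstance
  have hst : ∀ v : {v : V // v ≠ 1}, MulAction.stabilizer Q v = V := by
    intro v
    ext g
    rw [MulAction.mem_stabilizer_iff]
    have h0 : g • v = v ↔ g * (v.1 : Q) * g⁻¹ = v.1 := by
      constructor
      · intro h
        exact congrArg (fun x : {v : V // v ≠ 1} => (x.1 : Q)) h
      · intro h
        exact Subtype.ext (Subtype.ext h)
    rw [h0, mul_inv_eq_iff_eq_mul]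
    constructor
    · intro h
      by_contra hg
      have h1 := hfpf g hg v.1 v.1.2 h
      exact v.2 (Subtype.ext h1)
    · intro hg
      exact hab g hg v.1 v.1.2
  have hcard : Nat.card {v : V // v ≠ 1} = Nat.card V - 1 := by
    have := Fintype.ofFinite V
    rw [Nat.card_eq_fintype_card, Nat.card_eq_fintype_card, Fintype.card_subtype_compl, Fintype.card_subtype_eq]
  have hfq : Fintype (MulAction.orbitRel.Quotient Q {v : V // v ≠ 1}) := Fintype.ofFinite _
  rw [← hcard, Nat.card_congr (MulAction.selfEquivSigmaOrbits Q {v : V // v ≠ 1}), Nat.card_sigma]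
  apply Finset.dvd_sum
  intro ω _
  have h1 : Nat.card (MulAction.orbit Q (Quotient.out ω)) = V.index := by
    rw [Nat.card_coe_set_eq, ← MulAction.index_stabilizer, hst]
  rw [h1]

/-- The dichotomy, relative to a surjection on a minimal nonabelian solvable group. -/
theorem cases_of_surj2 {G Q : Type*} [Group G] [Finite G] [Group Q] [Finite Q] [Group.IsSolvable Q]
    (π : G →* Q) (hπ : Function.Surjective π) (h1 : commutator Q ≠ ⊥)
    (hmin : ∀ M : Subgroup Q, M.Normal → M ≠ ⊥ → commutator Q ≤ M) :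
    ∃ (p : ℕ) (f : ℕ), p.Prime ∧ 1 < f ∧
      (((∃ b, f = p ^ b) ∧ ∀ n ∈ charDegrees G, p ∣ n ∨ f * n ∈ charDegrees G) ∨
        (f.Coprime p ∧ ∃ N : Subgroup G, ∃ _ : N.Normal, N.index = f ∧
          ∃ m : ℕ, 0 < m ∧ f ∣ p ^ m - 1 ∧
            ∀ (ψ : N → ℂ), IsIrrCharacter N ψ → ∀ d : ℕ, ψ 1 = d → p ^ m ∣ d ^ 2 ∨ f * d ∈ charDegrees G)) := by
  classical
  have := Fintype.ofFinite G
  have hab := MinNonab.comm_of_mem h1 hmin
  obtain ⟨p, hp, hexp⟩ := MinNonab.exists_prime h1 hab hmin
  have hpf := Fact.mk hp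
  by_cases hZ : Subgroup.center Q = ⊥
  · -- Frobenius case
    have hfpf := MinNonab.fixedPointFree hab hmin h1 hZ
    have hidx : 1 < (commutator Q).index := by
      have h0 : (commutator Q).index ≠ 0 := Subgroup.index_ne_zero_of_finite
      have h2 : (commutator Q).index ≠ 1 := by
        intro h
        rw [Subgroup.index_eq_one] at h
        apply h1
        rw [eq_bot_iff, ← hZ]
        intro v hv
        rw [Subgroup.mem_center_iff]
        intro g
        exact hab g (h ▸ Subgroup.mem_top g) v hv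
      omega
    -- `f` is coprime to `p`
    have hcop : (commutator Q).index.Coprime p := by
      rw [Nat.coprime_comm, hp.coprime_iff_not_dvd]
      intro hdvd
      -- a `p`-element outside `V` acts with fixed points on `V`
      have hVp : IsPGroup p (commutator Q) := by
        intro v
        exact ⟨1, Subtype.ext (by simpa using hexp v v.2)⟩
      obtain ⟨P, hP⟩ := hVp.exists_le_sylow
      -- `P ≠ V`
      have hne : ∃ x ∈ (P : Subgroup Q), x ∉ commutator Q := by
        by_contra hcon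
        push Not at hcon
        have heq : (P : Subgroup Q) = commutator Q := le_antisymm hcon hP
        apply P.not_dvd_index
        rw [heq]
        exact hdvd
      obtain ⟨x, hxP, hxV⟩ := hne
      -- `Z(P) ∩ V ≠ 1`
      have hPp : IsPGroup p (P : Subgroup Q) := P.isPGroup'
      let V' : Subgroup (P : Subgroup Q) := (commutator Q).subgroupOf P
      have hV'n : V'.Normal := inferInstance
      have hV'1 : V' ≠ ⊥ := by
        intro h
        apply h1
        rw [eq_bot_iff]
        intro v hv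
        have : (⟨v, hP hv⟩ : (P : Subgroup Q)) ∈ V' := Subgroup.mem_subgroupOf.2 hv
        rw [h, Subgroup.mem_bot] at this
        exact Subgroup.mem_bot.2 (congrArg Subtype.val this)
      obtain ⟨z, hz1, hz2, hz⟩ :=
        Cfsg.Agent.Transfer.PGroupNormal.exists_mem_inf_center_orderOf hPp V' hV'1
      have hz3 : (z : Q) ∈ commutator Q := Subgroup.mem_subgroupOf.1 hz1
      have hz4 := Subgroup.mem_center_iff.1 hz2 ⟨x, hxP⟩
      have hz5 : x * (z : Q) = z * x := congrArg Subtype.val hz4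
      have hz6 := hfpf x hxV z hz3 hz5
      have hz7 : z = 1 := Subtype.ext hz6
      rw [hz7, orderOf_one] at hz
      exact hp.one_lt.ne hz
    have hVp : IsPGroup p (commutator Q) := by
      intro v
      exact ⟨1, Subtype.ext (by simpa using hexp v v.2)⟩
    obtain ⟨m, hm⟩ := IsPGroup.iff_card.1 hVp
    have hlt := FrobDeg.index_lt (commutator Q) hfpf h1
    rw [hm] at hlt
    have hm0 : 0 < m := by
      rcases Nat.eq_zero_or_pos m with h0 | h0
      · rw [h0, pow_zero] at hlt
        omega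
      · exact h0
    refine ⟨p, (commutator Q).index, hp, hidx, Or.inr ⟨hcop, (commutator Q).comap π,
      (inferInstance : (commutator Q).Normal).comap _, ?_, m, hm0, hm ▸ index_dvd (commutator Q) hab hfpf, ?_⟩⟩
    · exact Subgroup.index_comap_of_surjective _ hπ
    · intro ψ hψ d hψd
      have hNn : ((commutator Q).comap π).Normal := (inferInstance : (commutator Q).Normal).comap _
      have h2 := Frob.index_mul_mem_or (commutator Q) π hπ hab hfpf ((commutator Q).comap π) rfl hψ hψd
      rw [hm] at h2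
      exact h2.symm
  · -- the `p`-group case
    have hPG : IsPGroup p Q := MinNonab.isPGroup_of_center h1 hp hexp hmin hZ
    obtain ⟨a, ha⟩ := IsPGroup.iff_card.1 hPG
    -- a nonlinear irreducible character of the quotient
    obtain ⟨f, hf, hf1⟩ : ∃ f ∈ charDegrees Q, f ≠ 1 := by
      by_contra hcon
      push Not at hcon
      apply h1
      have hall : ∀ χ : IrrCharacter Q, (χ : Q → ℂ) 1 = 1 := by
        intro χ
        obtain ⟨m, hm, hm'⟩ := isIrr_apply_one χ.2
        have := hcon m (mem_charDegrees.2 ⟨χ, χ.2, hm'⟩)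
        rw [hm', this, Nat.cast_one]
      have hc := S0187.result.2 hall
      rw [commutator_eq_bot_iff_center_eq_top, Subgroup.eq_top_iff']
      intro x
      rw [Subgroup.mem_center_iff]
      intro y
      exact hc y x
    have hfp : ∃ b, f = p ^ b := by
      have h2 := dvd_card hf
      rw [ha] at h2
      obtain ⟨b, -, hb⟩ := (Nat.dvd_prime_pow hp).1 h2
      exact ⟨b, hb⟩
    have hfpos := pos_of_mem hf
    refine ⟨p, f, hp, by omega, Or.inl ⟨hfp, ?_⟩⟩
    intro n hn
    by_cases hpn : p ∣ n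
    · exact Or.inl hpn
    · right
      obtain ⟨χ, hχ, hχn⟩ := mem_charDegrees.1 hn
      have := Fintype.ofFinite π.ker
      obtain ⟨ψ, d, hψ, hψd, hne, hd1, hd2⟩ := exists_constituent π.ker hχ hχn
      have hidx : π.ker.index = p ^ a := by
        rw [← ha]
        have := Nat.card_congr (QuotientGroup.quotientKerEquivOfSurjective π hπ).toEquiv
        exact this
      rw [hidx] at hd2
      have hnd : n / d = 1 := by
        have h2 : n / d ∣ n := Nat.div_dvd_of_dvd hd1
        have h3 : (n / d).Coprime (p ^ a) := by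
          refine Nat.Coprime.pow_right a ?_
          rw [Nat.coprime_comm, hp.coprime_iff_not_dvd]
          exact fun h => hpn (h.trans h2)
        exact Nat.eq_one_of_dvd_coprimes h3 dvd_rfl hd2
      have hdn : d = n := by
        have := Nat.div_mul_cancel hd1
        rw [hnd, one_mul] at this
        exact this
      have hres := restrict_eq_of_degree π.ker (isIrr_isCharacter hχ) hψ hne (by
        rw [hχn, hψd, hdn])
      exact gallagher π hπ π.ker (fun k hk => hk) hχ (by rw [hres]; exact hψ) hχn hf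

/-- The dichotomy for a finite group whose derived subgroup is not perfect. -/
theorem cases_of_not_perfect2 {G : Type*} [Group G] [Finite G]
    (hG : ⁅commutator G, commutator G⁆ ≠ commutator G) :
    ∃ (p : ℕ) (f : ℕ), p.Prime ∧ 1 < f ∧
      (((∃ b, f = p ^ b) ∧ ∀ n ∈ charDegrees G, p ∣ n ∨ f * n ∈ charDegrees G) ∨
        (f.Coprime p ∧ ∃ N : Subgroup G, ∃ _ : N.Normal, N.index = f ∧
          ∃ m : ℕ, 0 < m ∧ f ∣ p ^ m - 1 ∧
            ∀ (ψ : N → ℂ), IsIrrCharacter N ψ → ∀ d : ℕ, ψ 1 = d → p ^ m ∣ d ^ 2 ∨ f * d ∈ charDegrees G)) := by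
  classical
  set D : Subgroup G := ⁅commutator G, commutator G⁆ with hD
  have hDn : D.Normal := inferInstance
  have hπ := QuotientGroup.mk'_surjective D
  have hmap : commutator (G ⧸ D) = (commutator G).map (QuotientGroup.mk' D) := by
    rw [commutator_def, commutator_def, Subgroup.map_commutator,
      Subgroup.map_top_of_surjective _ hπ]
  have hne : commutator (G ⧸ D) ≠ ⊥ := by
    intro h
    rw [hmap, Subgroup.map_eq_bot_iff, QuotientGroup.ker_mk'] at h
    exact hG (le_antisymm (Subgroup.commutator_le_left _ _) h)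
  have hsol : Group.IsSolvable (G ⧸ D) := by
    refine ⟨2, ?_⟩
    have h1 : derivedSeries (G ⧸ D) 1 = commutator (G ⧸ D) := derivedSeries_one _
    rw [derivedSeries_succ, h1, hmap, ← Subgroup.map_commutator, Subgroup.map_eq_bot_iff,
      QuotientGroup.ker_mk']
  obtain ⟨K, hKn, h1, hmin⟩ := MinNonab.exists_quotient hne
  have hsolK : Group.IsSolvable ((G ⧸ D) ⧸ K) :=
    Group.isSolvable_of_surjective (QuotientGroup.mk'_surjective K)
  exact cases_of_surj2 ((QuotientGroup.mk' K).comp (QuotientGroup.mk' D))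
    ((QuotientGroup.mk'_surjective K).comp hπ) h1 hmin



/-- The dichotomy in numerical form. -/
theorem dich2 {G : Type*} [Group G] [Finite G] (hG : ⁅commutator G, commutator G⁆ ≠ commutator G) :
    ∃ p f : ℕ, p.Prime ∧ 1 < f ∧ f ∈ charDegrees G ∧
      (((∃ b, f = p ^ b) ∧ ∀ n ∈ charDegrees G, p ∣ n ∨ f * n ∈ charDegrees G) ∨
        (f.Coprime p ∧ ∃ m : ℕ, 0 < m ∧ f ∣ p ^ m - 1 ∧ ∀ n ∈ charDegrees G, ∃ e, e ∣ n ∧ n / e ∣ f ∧
          (p ^ m ∣ e ^ 2 ∨ f * e ∈ charDegrees G))) := by
  classical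
  have := Fintype.ofFinite G
  obtain ⟨p, f, hp, hf, h⟩ := cases_of_not_perfect2 hG
  rcases h with ⟨h1, h2⟩ | ⟨h1, N, hN, hNf, m, hm, hfm, hc⟩
  · refine ⟨p, f, hp, hf, ?_, Or.inl ⟨h1, h2⟩⟩
    rcases h2 1 one_mem with h | h
    · exact absurd (Nat.dvd_one.1 h) hp.ne_one
    · rwa [mul_one] at h
  · have := Fintype.ofFinite N
    have key : ∀ n ∈ charDegrees G, ∃ e, e ∣ n ∧ n / e ∣ f ∧ (p ^ m ∣ e ^ 2 ∨ f * e ∈ charDegrees G) := by
      intro n hn
      obtain ⟨χ, hχ, hχn⟩ := mem_charDegrees.1 hn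
      obtain ⟨ψ, d, hψ, hψd, -, hd1, hd2⟩ := exists_constituent N hχ hχn
      rw [hNf] at hd2
      exact ⟨d, hd1, hd2, hc ψ hψ d hψd⟩
    refine ⟨p, f, hp, hf, ?_, Or.inr ⟨h1, m, hm, hfm, key⟩⟩
    obtain ⟨e, he, -, h⟩ := key 1 one_mem
    have he1 : e = 1 := Nat.dvd_one.1 he
    subst he1
    rcases h with h | h
    · rw [one_pow] at h
      have h2 := Nat.le_of_dvd one_pos h
      have h3 : 1 < p ^ m := Nat.one_lt_pow hm.ne' hp.one_lt
      omega
    · rwa [mul_one] at h

/-- a solvable group with perfect derived subgroup has no nonlinear degree -/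
theorem eq_one_of_solvable {G : Type*} [Group G] [Finite G] (hsol : Group.IsSolvable G)
    (hperf : ⁅commutator G, commutator G⁆ = commutator G) {n : ℕ} (hn : n ∈ charDegrees G) : n = 1 := by
  have h1 : commutator G = ⊥ := by
    obtain ⟨n, hn⟩ := hsol.solvable
    have h2 : ∀ k, commutator G ≤ derivedSeries G k := by
      intro k
      induction k with
      | zero => exact le_top
      | succ k ih =>
        rw [derivedSeries_succ]
        calc commutator G = ⁅commutator G, commutator G⁆ := hperf.symm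
          _ ≤ ⁅derivedSeries G k, derivedSeries G k⁆ := Subgroup.commutator_mono ih ih
    exact le_bot_iff.1 ((h2 n).trans hn.le)
  obtain ⟨χ, hχ, hχn⟩ := mem_charDegrees.1 hn
  have hcomm : ∀ a b : G, a * b = b * a := by
    intro a b
    have h3 := (Subgroup.commutator_eq_bot_iff_le_centralizer (H₁ := (⊤ : Subgroup G)) (H₂ := ⊤)).1 h1
    exact (Subgroup.mem_centralizer_iff.1 (h3 (Subgroup.mem_top a)) b (Subgroup.mem_top b)).symm
  have h3 := Cfsg.Agent.S0187.result.1 hcomm ⟨χ, hχ⟩
  have h4 : ((n : ℕ) : ℂ) = 1 := by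
    rw [← hχn]
    exact h3
  exact_mod_cast h4

/-- the first engine of helper704: `NumAll D → Solv D` -/
theorem solv_of_numAll {D : Set ℕ} (h : H704.S8.NumAll D) : H704.S8.Solv.{u} D := by
  intro G _ _ hsol hD
  subst hD
  obtain ⟨⟨d, hd, hd1⟩, hkill⟩ := h
  by_cases hperf : ⁅commutator G, commutator G⁆ = commutator G
  · have := eq_one_of_solvable hsol hperf hd
    omega
  · obtain ⟨p, f, hp, hf, hfD, hcase⟩ := dich2 hperf
    obtain ⟨hk1, hk2⟩ := hkill f hfD hf
    rcases hcase with ⟨⟨b, hb⟩, hc⟩ | ⟨-, m, hm, hfm, hc⟩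
    · obtain ⟨n, hn, hpn, hfn⟩ := hk1 p b hp hb
      rcases hc n hn with h1 | h1
      · exact hpn h1
      · exact hfn (by rwa [mul_comm] at h1)
    · have hmod : p ^ m ≡ 1 [MOD f] := ((Nat.modEq_iff_dvd' (Nat.one_le_pow _ _ hp.pos)).2 hfm).symm
      obtain ⟨n, hn, hall⟩ := hk2 p m hp hm hmod
      obtain ⟨e, he1, he2, he3⟩ := hc n hn
      obtain ⟨h1, h2⟩ := hall e he1 he2
      rcases he3 with h3 | h3
      · exact h2 h3
      · exact h1 h3

/-! ### the list check -/

/-- `true` if no `p ^ m`, `m ≥ 1`, divides a member of every list in `L` and is `1` modulo `f` -/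
def loop (f p : ℕ) (L : List (List ℕ)) : ℕ → ℕ → Bool
  | 0, _ => false
  | k + 1, q => if L.all (fun l => l.any (fun s => s % q == 0)) then (!(q % f == 1) && loop f p L k (q * p)) else true

theorem loop_false {f p m : ℕ} {L : List (List ℕ)} (hL : ∀ l ∈ L, ∃ s ∈ l, p ^ m ∣ s) (hm : p ^ m % f = 1) :
    ∀ k j : ℕ, 1 ≤ j → j ≤ m → loop f p L k (p ^ j) = false := by
  intro k
  induction k with
  | zero => intro j _ _; rfl
  | succ k ih =>
    intro j h1 h2
    have hc : L.all (fun l => l.any (fun s => s % (p ^ j) == 0)) = true := by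
      rw [List.all_eq_true]
      intro l hl
      rw [List.any_eq_true]
      obtain ⟨s, hs, hd⟩ := hL l hl
      exact ⟨s, hs, by rw [beq_iff_eq]; exact Nat.mod_eq_zero_of_dvd ((pow_dvd_pow p h2).trans hd)⟩
    unfold loop
    rw [if_pos hc]
    rcases Nat.lt_or_ge j m with h3 | h3
    · rw [← pow_succ, ih (j + 1) (by omega) h3, Bool.and_false]
    · have h4 : j = m := le_antisymm h2 h3
      subst h4
      rw [hm]
      rfl

/-- the Frobenius case is impossible for `f` -/
def frob2 (B : ℕ) (P Adm : List ℕ) (K : List (List ℕ)) (f : ℕ) : Bool :=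
  let L := K.filter (fun l => l.all (fun n => !ext B Adm f n))
  !L.isEmpty && P.all (fun p => f % p == 0 || loop f p (L.map (fun l => l.map (fun n => n ^ 2))) 300 p)

/-- the prime power case is impossible for `f` -/
def pp2 (B : ℕ) (P Adm : List ℕ) (K : List (List ℕ)) (f : ℕ) : Bool :=
  P.all (fun p => !((p ^ 128) % f == 0) ||
    K.any (fun l => l.all (fun n => !(n % p == 0) && (Nat.blt B (f * n) || !(Adm.any (fun d => d == f * n))))))

/-- the whole check -/
def chk2 (B : ℕ) (P Adm : List ℕ) (K : List (List ℕ)) : Bool :=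
  Adm.all (fun f => Nat.ble f B && (Nat.ble f 1 || (frob2 B P Adm K f && pp2 B P Adm K f))) &&
    (K.any (fun l => l.all (fun n => Nat.blt 1 n)) &&
      (Adm.all (fun d => Nat.blt 0 d && (Nat.blt d (2 ^ 128) && (P.prod ^ 128) % d == 0)) &&
        K.all (fun l => l.all (fun d => (P.prod ^ 128) % d == 0))))

/-- **The engine**: the derived subgroup is perfect. -/
theorem perf_of_chk2 {G : Type*} [Group G] [Finite G] (B : ℕ) (P Adm : List ℕ) (K : List (List ℕ))
    (hP : ∀ p ∈ P, p.Prime) (hAdm : ∀ d ∈ charDegrees G, d ∈ Adm) (hK : ∀ l ∈ K, ∃ n ∈ l, n ∈ charDegrees G)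
    (hchk : chk2 B P Adm K = true) : ⁅commutator G, commutator G⁆ = commutator G := by
  classical
  by_contra hcon
  obtain ⟨p, f, hp, hf, hfD, h⟩ := dich2 hcon
  unfold chk2 at hchk
  rw [Bool.and_eq_true, Bool.and_eq_true, Bool.and_eq_true] at hchk
  obtain ⟨hA, -, hS1, hS2⟩ := hchk
  rw [List.all_eq_true] at hA hS1 hS2
  have hB : ∀ d ∈ Adm, d ≤ B := by
    intro d hd
    have := hA d hd
    rw [Bool.and_eq_true] at this
    exact Nat.le_of_ble_eq_true this.1
  have hS1' : ∀ d ∈ Adm, 0 < d ∧ d < 2 ^ 128 ∧ d ∣ P.prod ^ 128 := by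
    intro d hd
    have := hS1 d hd
    rw [Bool.and_eq_true, Bool.and_eq_true] at this
    obtain ⟨h1, h2, h3⟩ := this
    exact ⟨Nat.le_of_ble_eq_true h1, Nat.le_of_ble_eq_true h2, Nat.dvd_of_mod_eq_zero (by simpa using h3)⟩
  have hS2' : ∀ l ∈ K, ∀ d ∈ l, d ∣ P.prod ^ 128 := by
    intro l hl d hd
    have h1 := hS2 l hl
    rw [List.all_eq_true] at h1
    exact Nat.dvd_of_mod_eq_zero (by simpa using h1 d hd)
  have hPmem : ∀ q : ℕ, q.Prime → ∀ d, d ∣ P.prod ^ 128 → q ∣ d → q ∈ P := by
    intro q hq d hd hqd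
    have h1 : q ∣ P.prod := hq.dvd_of_dvd_pow (hqd.trans hd)
    obtain ⟨a, ha, hqa⟩ := (hq.prime.dvd_prod_iff).1 h1
    rwa [(Nat.prime_dvd_prime_iff_eq hq (hP a ha)).1 hqa]
  have hfA := hAdm f hfD
  have hf' := hA f hfA
  rw [Bool.and_eq_true, Bool.or_eq_true, Bool.and_eq_true] at hf'
  obtain ⟨-, hf'⟩ := hf'
  have hf'' : frob2 B P Adm K f = true ∧ pp2 B P Adm K f = true := by
    rcases hf' with h1 | h1
    · have := Nat.le_of_ble_eq_true h1
      omega
    · exact h1
  obtain ⟨hfr, hpp⟩ := hf''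
  have hbig := hS1' f hfA
  rcases h with ⟨⟨b, hb⟩, h⟩ | ⟨hcop, m, hm, hfm, h⟩
  · -- the prime power case
    have hpf : p ∣ f := by
      rw [hb]
      apply dvd_pow_self
      rintro rfl
      rw [pow_zero] at hb
      omega
    have hpP : p ∈ P := hPmem p hp f hbig.2.2 hpf
    unfold pp2 at hpp
    rw [List.all_eq_true] at hpp
    have h1 := hpp p hpP
    rw [dvd_pow_big hb hbig.2.1 hp.two_le, Bool.or_eq_true, List.any_eq_true] at h1
    rcases h1 with h1 | ⟨l, hl, h1⟩
    · simp at h1
    · obtain ⟨n, hn, hnD⟩ := hK l hl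
      rw [List.all_eq_true] at h1
      have h1 := h1 n hn
      rw [Bool.and_eq_true] at h1
      obtain ⟨h2, h3⟩ := h1
      rcases h n hnD with h4 | h4
      · have h5 := Nat.mod_eq_zero_of_dvd h4
        rw [h5] at h2
        simp at h2
      · have h5 := hAdm _ h4
        rw [Bool.or_eq_true] at h3
        rcases h3 with h3 | h3
        · have h6 := Nat.le_of_ble_eq_true h3
          have h7 := hB _ h5
          omega
        · rw [Bool.not_eq_true', List.any_eq_false] at h3
          exact h3 _ h5 (by simp)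
  · -- the Frobenius case
    have hdv : ∀ l ∈ K, (l.all (fun n => !ext B Adm f n)) = true → ∃ n ∈ l, p ^ m ∣ n ^ 2 := by
      intro l hl hext
      obtain ⟨n, hn, hnD⟩ := hK l hl
      refine ⟨n, hn, ?_⟩
      rw [List.all_eq_true] at hext
      have hext := hext n hn
      obtain ⟨e, he1, he2, he3⟩ := h n hnD
      rcases he3 with h1 | h1
      · exact h1.trans (pow_dvd_pow_of_dvd he1 2)
      · have hdA := hAdm _ h1
        have h3 : n ∣ f * e := by
          have := Nat.mul_dvd_mul_right he2 e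
          rwa [Nat.div_mul_cancel he1] at this
        have h4 := ext_of hB hdA (hS1' _ hdA).1 (Dvd.intro _ rfl) h3 (Nat.mul_dvd_mul_left f he1)
        rw [h4] at hext
        simp at hext
    unfold frob2 at hfr
    simp only at hfr
    rw [Bool.and_eq_true, List.all_eq_true] at hfr
    obtain ⟨hne, hfr⟩ := hfr
    obtain ⟨l₀, hl₀⟩ : ∃ l, l ∈ K.filter (fun l => l.all (fun n => !ext B Adm f n)) := by
      rw [Bool.not_eq_true', List.isEmpty_eq_false_iff_exists_mem] at hne
      exact hne
    obtain ⟨hl₀K, hl₀e⟩ := List.mem_filter.1 hl₀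
    obtain ⟨n₀, hn₀, hn₀d⟩ := hdv l₀ hl₀K hl₀e
    have hpn : p ∣ n₀ := hp.dvd_of_dvd_pow ((dvd_pow_self p hm.ne').trans hn₀d)
    have hpP : p ∈ P := hPmem p hp n₀ (hS2' l₀ hl₀K n₀ hn₀) hpn
    have h1 := hfr p hpP
    rw [Bool.or_eq_true] at h1
    rcases h1 with h1 | h1
    · have h2 : p ∣ f := Nat.dvd_of_mod_eq_zero (by simpa using h1)
      exact hp.one_lt.ne' (Nat.eq_one_of_dvd_coprimes hcop h2 dvd_rfl)
    · have hmod : p ^ m % f = 1 := by
        have h2 : 1 ≡ p ^ m [MOD f] := (Nat.modEq_iff_dvd' (Nat.one_le_pow _ _ hp.pos)).2 hfm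
        have h3 : 1 % f = p ^ m % f := h2
        rw [← h3]
        exact Nat.mod_eq_of_lt hf
      have h2 := loop_false (f := f) (p := p) (m := m)
        (L := (K.filter (fun l => l.all (fun n => !ext B Adm f n))).map (fun l => l.map (fun n => n ^ 2)))
        (by
          intro l' hl'
          obtain ⟨l, hl, rfl⟩ := List.mem_map.1 hl'
          obtain ⟨hlK, hle⟩ := List.mem_filter.1 hl
          obtain ⟨n, hn, hd⟩ := hdv l hlK hle
          exact ⟨n ^ 2, List.mem_map.2 ⟨n, hn, rfl⟩, hd⟩) hmod 300 1 le_rfl hm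
      rw [pow_one] at h2
      rw [h2] at h1
      exact Bool.false_ne_true h1

/-- **SOLV from the check.** -/
theorem solv_of_chk2 {D : Set ℕ} (B : ℕ) (P Adm : List ℕ) (K : List (List ℕ)) (hP : ∀ p ∈ P, p.Prime)
    (hAdm : ∀ d ∈ D, d ∈ Adm) (hK : ∀ l ∈ K, ∃ n ∈ l, n ∈ D) (hchk : chk2 B P Adm K = true) :
    H704.S8.Solv.{u} D := by
  intro G _ _ hsol hD
  subst hD
  have hperf := perf_of_chk2 B P Adm K hP hAdm hK hchk
  unfold chk2 at hchk
  rw [Bool.and_eq_true, Bool.and_eq_true, List.any_eq_true] at hchk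
  obtain ⟨-, ⟨l, hl, hl1⟩, -⟩ := hchk
  obtain ⟨n, hn, hnD⟩ := hK l hl
  rw [List.all_eq_true] at hl1
  have h1 := Nat.le_of_ble_eq_true (hl1 n hn)
  have h2 := eq_one_of_solvable hsol hperf hnD
  omega

end Cfsg.Agent.H497.S8
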