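import Mathlib
import Cfsg.Agent.H497.S8.SolvTwo

/-!
# Isaacs 12.3 and 12.4 relative to a quotient (helper497)

`cases_surj_strong` : the dichotomy relative to a surjection on a minimal nonabelian solvable group `Q`, with
`f ∈ charDegrees Q` and `p ^ m ≡ 1 [MOD f]`.
-/

set_option autoImplicit false

namespace Cfsg.Agent.H497.S8

open Cfsg Cfsg.Agent.Characters.Core Cfsg.Agent.H681 Cfsg.Agent.H681.DegBasic Cfsg.Agent.H34 Cfsg.Agent.H34.Perf3

/-- The dichotomy, relative to a surjection on a minimal nonabelian solvable group. -/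
theorem cases_surj_strong {G Q : Type*} [Group G] [Finite G] [Group Q] [Finite Q] [Group.IsSolvable Q]
    (π : G →* Q) (hπ : Function.Surjective π) (h1 : commutator Q ≠ ⊥)
    (hmin : ∀ M : Subgroup Q, M.Normal → M ≠ ⊥ → commutator Q ≤ M) :
    ∃ (p : ℕ) (f : ℕ), p.Prime ∧ 1 < f ∧ f ∈ charDegrees Q ∧
      (((∃ b, f = p ^ b) ∧ ∀ n ∈ charDegrees G, p ∣ n ∨ f * n ∈ charDegrees G) ∨
        (f.Coprime p ∧ ∃ N : Subgroup G, ∃ _ : N.Normal, N.index = f ∧
          ∃ m : ℕ, 0 < m ∧ f ∣ p ^ m - 1 ∧ p ^ m ≡ 1 [MOD f] ∧ p ^ m = Nat.card (commutator Q) ∧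
            ∀ (ψ : N → ℂ), IsIrrCharacter N ψ → ∀ d : ℕ, ψ 1 = d → p ^ m ∣ d ^ 2 ∨ f * d ∈ charDegrees G)) := by
  classical
  have := Fintype.ofFinite G
  have hab := MinNonab.comm_of_mem h1 hmin
  obtain ⟨p, hp, hexp⟩ := MinNonab.exists_prime h1 hab hmin
  have hpf := Fact.mk hp
  by_cases hZ : Subgroup.center Q = ⊥
  · -- Frobenius case
    have hfpf := MinNonab.fixedPointFree hab hmin h1 hZ
    have hidx : 1 < (commutator Q).index := by
      have h0 : (commutator Q).index ≠ 0 := Subgroup.index_ne_zero_of_finite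
      have h2 : (commutator Q).index ≠ 1 := by
        intro h
        rw [Subgroup.index_eq_one] at h
        apply h1
        rw [eq_bot_iff, ← hZ]
        intro v hv
        rw [Subgroup.mem_center_iff]
        intro g
        exact hab g (h ▸ Subgroup.mem_top g) v hv
      omega
    -- `f` is coprime to `p`
    have hcop : (commutator Q).index.Coprime p := by
      rw [Nat.coprime_comm, hp.coprime_iff_not_dvd]
      intro hdvd
      -- a `p`-element outside `V` acts with fixed points on `V`
      have hVp : IsPGroup p (commutator Q) := by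
        intro v
        exact ⟨1, Subtype.ext (by simpa using hexp v v.2)⟩
      obtain ⟨P, hP⟩ := hVp.exists_le_sylow
      -- `P ≠ V`
      have hne : ∃ x ∈ (P : Subgroup Q), x ∉ commutator Q := by
        by_contra hcon
        push Not at hcon
        have heq : (P : Subgroup Q) = commutator Q := le_antisymm hcon hP
        apply P.not_dvd_index
        rw [heq]
        exact hdvd
      obtain ⟨x, hxP, hxV⟩ := hne
      -- `Z(P) ∩ V ≠ 1`
      have hPp : IsPGroup p (P : Subgroup Q) := P.isPGroup'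
      let V' : Subgroup (P : Subgroup Q) := (commutator Q).subgroupOf P
      have hV'n : V'.Normal := inferInstance
      have hV'1 : V' ≠ ⊥ := by
        intro h
        apply h1
        rw [eq_bot_iff]
        intro v hv
        have : (⟨v, hP hv⟩ : (P : Subgroup Q)) ∈ V' := Subgroup.mem_subgroupOf.2 hv
        rw [h, Subgroup.mem_bot] at this
        exact Subgroup.mem_bot.2 (congrArg Subtype.val this)
      obtain ⟨z, hz1, hz2, hz⟩ :=
        Cfsg.Agent.Transfer.PGroupNormal.exists_mem_inf_center_orderOf hPp V' hV'1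
      have hz3 : (z : Q) ∈ commutator Q := Subgroup.mem_subgroupOf.1 hz1
      have hz4 := Subgroup.mem_center_iff.1 hz2 ⟨x, hxP⟩
      have hz5 : x * (z : Q) = z * x := congrArg Subtype.val hz4
      have hz6 := hfpf x hxV z hz3 hz5
      have hz7 : z = 1 := Subtype.ext hz6
      rw [hz7, orderOf_one] at hz
      exact hp.one_lt.ne hz
    have hVp : IsPGroup p (commutator Q) := by
      intro v
      exact ⟨1, Subtype.ext (by simpa using hexp v v.2)⟩
    obtain ⟨m, hm⟩ := IsPGroup.iff_card.1 hVp
    have hlt := FrobDeg.index_lt (commutator Q) hfpf h1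
    rw [hm] at hlt
    have hm0 : 0 < m := by
      rcases Nat.eq_zero_or_pos m with h0 | h0
      · rw [h0, pow_zero] at hlt
        omega
      · exact h0
    have hdvd : (commutator Q).index ∣ p ^ m - 1 := hm ▸ index_dvd (commutator Q) hab hfpf
    have hmod : p ^ m ≡ 1 [MOD (commutator Q).index] :=
      ((Nat.modEq_iff_dvd' (Nat.one_le_pow _ _ hp.pos)).2 hdvd).symm
    have hfQ : (commutator Q).index ∈ charDegrees Q := by
      obtain ⟨ψ, hψ, hψ1⟩ := mem_charDegrees.1 (one_mem (G := commutator Q))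
      have h2 := Frob.index_mul_mem_or (commutator Q) (MonoidHom.id Q) Function.surjective_id hab hfpf (commutator Q)
        rfl hψ hψ1
      rcases h2 with h2 | h2
      · rwa [mul_one] at h2
      · rw [one_pow, hm] at h2
        have h3 := Nat.le_of_dvd one_pos h2
        omega
    refine ⟨p, (commutator Q).index, hp, hidx, hfQ, Or.inr ⟨hcop, (commutator Q).comap π,
      (inferInstance : (commutator Q).Normal).comap _, ?_, m, hm0, hdvd, hmod, hm.symm, ?_⟩⟩
    · exact Subgroup.index_comap_of_surjective _ hπ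
    · intro ψ hψ d hψd
      have hNn : ((commutator Q).comap π).Normal := (inferInstance : (commutator Q).Normal).comap _
      have h2 := Frob.index_mul_mem_or (commutator Q) π hπ hab hfpf ((commutator Q).comap π) rfl hψ hψd
      rw [hm] at h2
      exact h2.symm
  · -- the `p`-group case
    have hPG : IsPGroup p Q := MinNonab.isPGroup_of_center h1 hp hexp hmin hZ
    obtain ⟨a, ha⟩ := IsPGroup.iff_card.1 hPG
    -- a nonlinear irreducible character of the quotient
    obtain ⟨f, hf, hf1⟩ : ∃ f ∈ charDegrees Q, f ≠ 1 := by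
      by_contra hcon
      push Not at hcon
      apply h1
      have hall : ∀ χ : IrrCharacter Q, (χ : Q → ℂ) 1 = 1 := by
        intro χ
        obtain ⟨m, hm, hm'⟩ := isIrr_apply_one χ.2
        have := hcon m (mem_charDegrees.2 ⟨χ, χ.2, hm'⟩)
        rw [hm', this, Nat.cast_one]
      have hc := S0187.result.2 hall
      rw [commutator_eq_bot_iff_center_eq_top, Subgroup.eq_top_iff']
      intro x
      rw [Subgroup.mem_center_iff]
      intro y
      exact hc y x
    have hfp : ∃ b, f = p ^ b := by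
      have h2 := dvd_card hf
      rw [ha] at h2
      obtain ⟨b, -, hb⟩ := (Nat.dvd_prime_pow hp).1 h2
      exact ⟨b, hb⟩
    have hfpos := pos_of_mem hf
    refine ⟨p, f, hp, by omega, hf, Or.inl ⟨hfp, ?_⟩⟩
    intro n hn
    by_cases hpn : p ∣ n
    · exact Or.inl hpn
    · right
      obtain ⟨χ, hχ, hχn⟩ := mem_charDegrees.1 hn
      have := Fintype.ofFinite π.ker
      obtain ⟨ψ, d, hψ, hψd, hne, hd1, hd2⟩ := exists_constituent π.ker hχ hχn
      have hidx : π.ker.index = p ^ a := by
        rw [← ha]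
        have := Nat.card_congr (QuotientGroup.quotientKerEquivOfSurjective π hπ).toEquiv
        exact this
      rw [hidx] at hd2
      have hnd : n / d = 1 := by
        have h2 : n / d ∣ n := Nat.div_dvd_of_dvd hd1
        have h3 : (n / d).Coprime (p ^ a) := by
          refine Nat.Coprime.pow_right a ?_
          rw [Nat.coprime_comm, hp.coprime_iff_not_dvd]
          exact fun h => hpn (h.trans h2)
        exact Nat.eq_one_of_dvd_coprimes h3 dvd_rfl hd2
      have hdn : d = n := by
        have := Nat.div_mul_cancel hd1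
        rw [hnd, one_mul] at this
        exact this
      have hres := restrict_eq_of_degree π.ker (isIrr_isCharacter hχ) hψ hne (by
        rw [hχn, hψd, hdn])
      exact gallagher π hπ π.ker (fun k hk => hk) hχ (by rw [hres]; exact hψ) hχn hf


/-- numerical form of `cases_surj_strong` -/
theorem dich_surj {G Q : Type*} [Group G] [Finite G] [Group Q] [Finite Q] [Group.IsSolvable Q]
    (π : G →* Q) (hπ : Function.Surjective π) (h1 : commutator Q ≠ ⊥)
    (hmin : ∀ M : Subgroup Q, M.Normal → M ≠ ⊥ → commutator Q ≤ M) :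
    ∃ p f : ℕ, p.Prime ∧ 1 < f ∧ f ∈ charDegrees Q ∧
      (((∃ b, f = p ^ b) ∧ ∀ n ∈ charDegrees G, p ∣ n ∨ f * n ∈ charDegrees G) ∨
        (f.Coprime p ∧ ∃ m : ℕ, 0 < m ∧ p ^ m ≡ 1 [MOD f] ∧ ∀ n ∈ charDegrees G, ∃ e, e ∣ n ∧ n / e ∣ f ∧
          (p ^ m ∣ e ^ 2 ∨ f * e ∈ charDegrees G))) := by
  classical
  have := Fintype.ofFinite G
  obtain ⟨p, f, hp, hf, hfQ, h⟩ := cases_surj_strong π hπ h1 hmin
  rcases h with ⟨h1, h2⟩ | ⟨h1, N, hN, hNf, m, hm, -, hmod, -, hc⟩
  · exact ⟨p, f, hp, hf, hfQ, Or.inl ⟨h1, h2⟩⟩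
  · have := Fintype.ofFinite N
    refine ⟨p, f, hp, hf, hfQ, Or.inr ⟨h1, m, hm, hmod, ?_⟩⟩
    intro n hn
    obtain ⟨χ, hχ, hχn⟩ := mem_charDegrees.1 hn
    obtain ⟨ψ, d, hψ, hψd, -, hd1, hd2⟩ := exists_constituent N hχ hχn
    rw [hNf] at hd2
    exact ⟨d, hd1, hd2, hc ψ hψ d hψd⟩

end Cfsg.Agent.H497.S8
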