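import Cfsg.Agent.H133.Ore.DegCo3B
import Cfsg.Agent.H606.OreM.Exact
import Cfsg.Agent.H813.PW.Math
import Cfsg.Agent.H133.S8.MTwentyThree
import Cfsg.Agent.H921.SporCo

/-!
# S4908, `Co3`: no character of degree 264 (helper497)

The column of 23 of such a character is `- 11`. On `M23` the constituents of degree at most 264 have degree
`0, 1, 22` modulo 23 (the degrees 11 and 264 are out), and their columns are multiples of 22.
-/

set_option autoImplicit false

open Cfsg Subgroup

namespace Cfsg.Agent.H497.S8.Co3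

open Cfsg.Agent.H653.Sieve Cfsg.Agent.H651.Two Cfsg.Agent.Characters.Core
open Cfsg.Agent.H133.Ore.Co3 (simple card fin not_comm cent23 c23)
open Cfsg.Agent.H715.Fpr.MathData
open Cfsg.Agent.H940.Eng.D (n_m23)
open scoped Pointwise

universe u

section restrict

universe v

theorem csum_map {G : Type u} {H : Type v} [Group G] [Finite G] [Group H] [Finite H] (f : H →* G)
    (hf : Function.Injective f) (Q : Subgroup H) (χ : G → ℂ) : csum (Q.map f) χ = csum Q (χ ∘ f) := by
  have := Fintype.ofFinite Q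
  have := Fintype.ofFinite (Q.map f)
  rw [csum_eq, csum_eq]
  congr 1
  · symm
    exact Fintype.sum_equiv (Q.equivMapOfInjective f hf).toEquiv _ _ fun x => rfl
  · simp

theorem csum_conj {G : Type u} [Group G] [Finite G] {P : Subgroup G} (g : G) {χ : G → ℂ}
    (hχ : IsClassFunction G χ) : csum (MulAut.conj g • P) χ = csum P χ := by
  have h : MulAut.conj g • P = P.map (MulAut.conj g).toMonoidHom := rfl
  rw [h, csum_map _ (MulAut.conj g).injective]
  congr 1
  funext x
  simp only [Function.comp_apply, MulEquiv.coe_toMonoidHom, MulAut.conj_apply]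
  exact hχ x g

theorem csum_restrict {G : Type u} {H : Type v} [Group G] [Finite G] [Group H] [Finite H] (f : H →* G)
    (hf : Function.Injective f) {p : ℕ} [hp : Fact p.Prime] (P : Sylow p G) (Q : Sylow p H)
    (hP : Nat.card P = p) (hQ : Nat.card Q = p) {χ : G → ℂ} (hχ : IsClassFunction G χ) :
    csum (P : Subgroup G) χ = csum (Q : Subgroup H) (χ ∘ f) := by
  have hc : Nat.card ((Q : Subgroup H).map f) = p := by
    rw [Nat.card_congr ((Q : Subgroup H).equivMapOfInjective f hf).toEquiv.symm]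
    exact hQ
  obtain ⟨R, hR⟩ := (IsPGroup.of_card (n := 1) (by rw [hc, pow_one]) : IsPGroup p ((Q : Subgroup H).map f)).exists_le_sylow
  have hRc : Nat.card R = p := (Nat.card_congr (Sylow.equiv R P).toEquiv).trans hP
  have hR2 : (Q : Subgroup H).map f = R := Subgroup.eq_of_le_of_card_ge hR (by rw [hc]; exact hRc.le)
  obtain ⟨g, hg⟩ := MulAction.exists_smul_eq G P R
  rw [← csum_map f hf, hR2, ← hg, Sylow.coe_subgroup_smul, csum_conj g hχ]

end restrict

theorem fin23 : Finite Spor.M23 := Nat.finite_of_card_ne_zero (by rw [card23]; norm_num [n_m23])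

theorem card23' : Nat.card Spor.M23 = 10200960 := by rw [card23]; rfl

theorem isM23 : Cfsg.IsM23 Spor.M23 := ⟨simple23, card23'⟩

theorem not_comm23 : ¬ IsMulCommutative Spor.M23 := by
  have := simple23
  have := fin23
  exact H133.Ore.not_comm_of (by rw [card23']; norm_num)

theorem ok23 : H653.Sieve.numOK 10200960 23 1 11 2 c23.wl c23.c c23.b = true := by decide +kernel

theorem cent7' {x : Spor.M23} (hx : orderOf x = 7) : Nat.card (centralizer ({x} : Set Spor.M23)) = 7 * 2 := by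
  have h := (cn23_7 (R := zpowers x) (by rw [Nat.card_zpowers, hx])).1
  rwa [H133.Ore.Co3.cent_zpowers] at h

theorem cent23' {x : Spor.M23} (hx : orderOf x = 23) : Nat.card (centralizer ({x} : Set Spor.M23)) = 23 * 1 := by
  have h := (cn23_23 (R := zpowers x) (by rw [Nat.card_zpowers, hx])).1
  rwa [H133.Ore.Co3.cent_zpowers] at h

theorem cases_mn7 : ∀ m n : ℕ, 0 < m → 0 < n → m ∣ 3 → n ∣ 2 → m * (n * n) ≤ 2 → m = 1 ∧ n = 1 := by
  intro m n hm hn hm6 hn6 h1
  have : m ≤ 3 := Nat.le_of_dvd (by norm_num) hm6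
  have : n ≤ 2 := Nat.le_of_dvd (by norm_num) hn6
  interval_cases m <;> interval_cases n <;> simp_all

/-- `M23` has no character of degree 264. -/
theorem no264' (ψ : IrrCharacter Spor.M23) : charDegree (ψ : Spor.M23 → ℂ) ≠ 264 := by
  intro hd
  have := simple23
  have := fin23
  have h7 : Fact (Nat.Prime 7) := ⟨by norm_num⟩
  obtain ⟨x, hx⟩ := exists_prime_orderOf_dvd_card' (G := Spor.M23) 7 (by rw [card23']; norm_num)
  obtain ⟨m, n, hm0, hn0, hm, hn, h1, -, hres⟩ := H606.OreM.Exact.residue not_comm23 card23' hx (cent7' hx) 3 2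
    (by decide +kernel) ψ (by rw [hd]; norm_num)
  obtain ⟨rfl, rfl⟩ := cases_mn7 m n hm0 hn0 hm hn h1
  rw [hd] at hres
  simp only [H606.OreM.Exact.Res] at hres
  omega

/-- the degrees at most 264 of `M23` modulo 23 -/
theorem mod23 (ψ : IrrCharacter Spor.M23) (hd : charDegree (ψ : Spor.M23 → ℂ) ≤ 264) :
    charDegree (ψ : Spor.M23 → ℂ) % 23 = 0 ∨ charDegree (ψ : Spor.M23 → ℂ) % 23 = 1 ∨
      charDegree (ψ : Spor.M23 → ℂ) % 23 = 22 := by
  have := fin23
  have h := H133.S8.MTwentyThree.sup isM23 (n := charDegree (ψ : Spor.M23 → ℂ)) ⟨ψ, rfl⟩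
  have h264 := no264' ψ
  have h11 : charDegree (ψ : Spor.M23 → ℂ) ≠ 11 := by
    intro h11
    have := simple23
    have h1 : (ψ : Spor.M23 → ℂ) ≠ 1 := by
      intro h
      rw [h] at h11
      have : charDegree (1 : Spor.M23 → ℂ) = 1 := by unfold charDegree; simp
      omega
    have h2 : H511.Ore.MinDeg Spor.M23 21 :=
      H133.Ore.minDeg_of_rep not_comm23 (H121.Cyc.m23 ⟨MulEquiv.refl _⟩)
    have := h2 ψ h1
    omega
  simp only [H133.S8.MTwentyThree.C, List.map_cons, List.map_nil, List.mem_cons, List.not_mem_nil, or_false] at h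
  omega

/-- **`Co3` has no character of degree 264.** -/
theorem no264 (χ : IrrCharacter Spor.Co3) : charDegree (χ : Spor.Co3 → ℂ) ≠ 264 := by
  classical
  intro hd
  have := simple
  have := fin
  have := simple23
  have := fin23
  have : Finite (IrrCharacter Spor.Co3) := finite_irr
  have := Fintype.ofFinite (IrrCharacter Spor.Co3)
  have : Finite (IrrCharacter Spor.M23) := finite_irr
  have := Fintype.ofFinite (IrrCharacter Spor.M23)
  have h23 : Fact (Nat.Prime 23) := ⟨by norm_num⟩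
  obtain ⟨x, hx⟩ := exists_prime_orderOf_dvd_card' (G := Spor.Co3) 23 (by rw [card]; norm_num)
  obtain ⟨P, W, hP, he, hcol, hW⟩ := exists_col not_comm card hx (k := 1) (by rw [cent23 hx]) c23.e c23.t c23.wl
    c23.c c23.b (List.all_eq_true.1 H133.Ore.Co3.ok c23 (by simp [H133.Ore.Co3.cd]))
  have hWv : W χ = -1 := by
    have h1 : (charDegree (χ : Spor.Co3 → ℂ) % 23, W χ) ∈ c23.wl := hW.mem χ
    rw [hd] at h1
    simp only [c23, List.mem_cons, Prod.mk.injEq, List.not_mem_nil, or_false] at h1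
    omega
  obtain ⟨f, hf⟩ := H921.Spor.Co.exists_Co3
  obtain ⟨y, hy⟩ := exists_prime_orderOf_dvd_card' (G := Spor.M23) 23 (by rw [card23']; norm_num)
  obtain ⟨Q, V, hQ, he', hcol', hV⟩ := exists_col not_comm23 card23' hy (k := 1) (cent23' hy) 11 2 c23.wl
    c23.c c23.b ok23
  have hres := csum_restrict f hf P Q hP hQ (isIrr_isClassFunction χ.2)
  obtain ⟨a, ha⟩ := isCharacter_iff.1 (isCharacter_comp f (isIrr_isCharacter χ.2))
  -- the degrees of the constituents
  have hdeg : ∀ ψ : IrrCharacter Spor.M23, a ψ ≠ 0 → charDegree (ψ : Spor.M23 → ℂ) ≤ 264 := by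
    intro ψ hψ
    have h1 : ((∑ ψ : IrrCharacter Spor.M23, a ψ * charDegree (ψ : Spor.M23 → ℂ) : ℕ) : ℂ) = (264 : ℕ) := by
      have h2 := congrFun ha 1
      rw [Function.comp_apply, map_one, deg_cast] at h2
      rw [← hd]
      push_cast
      rw [show (H653.Sieve.deg χ : ℂ) = (charDegree (χ : Spor.Co3 → ℂ) : ℂ) from rfl] at h2
      rw [h2, Finset.sum_apply]
      refine Finset.sum_congr rfl fun ψ _ => ?_
      rw [Pi.smul_apply, nsmul_eq_mul, deg_cast]
      rfl
    have h2 : ∑ ψ : IrrCharacter Spor.M23, a ψ * charDegree (ψ : Spor.M23 → ℂ) = 264 := by exact_mod_cast h1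
    have h3 : a ψ * charDegree (ψ : Spor.M23 → ℂ) ≤ ∑ ψ : IrrCharacter Spor.M23, a ψ * charDegree (ψ : Spor.M23 → ℂ) :=
      Finset.single_le_sum (f := fun ψ : IrrCharacter Spor.M23 => a ψ * charDegree (ψ : Spor.M23 → ℂ))
        (fun _ _ => Nat.zero_le _) (Finset.mem_univ ψ)
    rw [h2] at h3
    exact le_trans (Nat.le_mul_of_pos_left _ (Nat.pos_of_ne_zero hψ)) h3
  have hev : ∀ ψ : IrrCharacter Spor.M23, (2 : ℤ) ∣ a ψ * V ψ := by
    intro ψ
    by_cases hψ : a ψ = 0
    · rw [hψ]; simp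
    · refine Dvd.dvd.mul_left ?_ _
      have h1 : (charDegree (ψ : Spor.M23 → ℂ) % 23, V ψ) ∈ c23.wl := hV.mem ψ
      have h2 := mod23 ψ (hdeg ψ hψ)
      simp only [c23, List.mem_cons, Prod.mk.injEq, List.not_mem_nil, or_false] at h1
      omega
  have hsum : csum (Q : Subgroup Spor.M23) ((χ : Spor.Co3 → ℂ) ∘ f) = ((11 * ∑ ψ : IrrCharacter Spor.M23, a ψ * V ψ : ℤ) : ℂ) := by
    have := Fintype.ofFinite (Q : Subgroup Spor.M23)
    have h1 : csum (Q : Subgroup Spor.M23) ((χ : Spor.Co3 → ℂ) ∘ f) =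
        ∑ ψ : IrrCharacter Spor.M23, (a ψ : ℂ) * csum (Q : Subgroup Spor.M23) (ψ : Spor.M23 → ℂ) := by
      rw [ha, csum_eq]
      have h0 : ∀ z : Spor.M23, (∑ ψ : IrrCharacter Spor.M23, a ψ • (ψ : Spor.M23 → ℂ)) z =
          ∑ ψ : IrrCharacter Spor.M23, (a ψ : ℂ) * (ψ : Spor.M23 → ℂ) z := by
        intro z
        rw [Finset.sum_apply]
        exact Finset.sum_congr rfl fun ψ _ => nsmul_eq_mul _ _
      simp only [h0, csum_eq]
      rw [Finset.sum_comm, ← Finset.sum_sub_distrib]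
      refine Finset.sum_congr rfl fun ψ _ => ?_
      rw [← Finset.mul_sum, mul_sub]
    rw [h1]
    push_cast
    rw [Finset.mul_sum]
    refine Finset.sum_congr rfl fun ψ _ => ?_
    rw [← hcol' ψ]
    push_cast
    ring
  rw [← hres, ← hcol χ, hWv, show c23.e = 11 from rfl] at hsum
  have h2 : (11 : ℤ) * (-1) = 11 * ∑ ψ : IrrCharacter Spor.M23, a ψ * V ψ := by exact_mod_cast hsum
  have h3 : (2 : ℤ) ∣ ∑ ψ : IrrCharacter Spor.M23, a ψ * V ψ := Finset.dvd_sum fun ψ _ => hev ψ
  omega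

end Cfsg.Agent.H497.S8.Co3
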