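import Cfsg.Agent.H497.S8.CoThreeA
import Cfsg.Agent.H497.S8.CoThreeB
import Cfsg.Agent.H185.S8.Solv

/-!
# S4908, SOLV for `Co3` (helper497)

`NumMin` with `m = 23`: 275 is a degree, `23 * 275 = 6325` is not (it is 4 modulo 7), and no divisor of `528 * 506` which is
prime to 23 and less than 529 is a degree (264 is excluded by the restriction to `M23`, 528 modulo 7).
-/

set_option autoImplicit false

open Cfsg Subgroup

namespace Cfsg.Agent.H497.S8.Co3

open Cfsg.Agent.H653.Sieve Cfsg.Agent.H651.Two Cfsg.Agent.Characters.Core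
open Cfsg.Agent.H511.Ore (MinDeg NoDeg DegOn tstOn degOn_of_check)
open Cfsg.Agent.H133.Ore.Co3 (simple card fin not_comm cd facs facs_prime facs_prod ok has minDeg21 no22)

universe u v

theorem noDeg : NoDeg Spor.Co3 [22, 264, 528] := by
  intro χ h
  simp only [List.mem_cons, List.not_mem_nil, or_false] at h
  rcases h with h | h | h
  · exact no22 χ h
  · exact no264 χ h
  · have := mod7 χ
    omega

theorem chk23 : allDiv (23 * 23) (tstOn (fun _ => true) 21 [22, 264, 528] cd) facs 1 = true := by decide +kernel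

theorem minDeg23 : MinDeg Spor.Co3 23 := by
  have := simple
  have := fin
  exact fun χ h => degOn_of_check not_comm _ card facs facs_prime facs_prod cd ok has minDeg21 noDeg chk23 χ h rfl

def P (d : ℕ) : Bool := Nat.beq (11616 % d) 0

theorem chk529 : allDiv (529 * 529) (tstOn P 23 [22, 264, 528] cd) facs 1 = true := by decide +kernel

theorem deg529 : DegOn Spor.Co3 P 529 := by
  have := simple
  have := fin
  exact degOn_of_check not_comm _ card facs facs_prime facs_prod cd ok has minDeg23 noDeg chk529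

theorem one_deg : charDegree (1 : Spor.Co3 → ℂ) = 1 := by
  unfold charDegree
  simp

theorem min {d : ℕ} (hd : d ∈ charDegrees Spor.Co3) : d = 1 ∨ 23 ≤ d := by
  obtain ⟨χ, rfl⟩ := hd
  by_cases h : (χ : Spor.Co3 → ℂ) = 1
  · left
    show charDegree (χ : Spor.Co3 → ℂ) = 1
    rw [h, one_deg]
  · exact Or.inr (minDeg23 χ h)

theorem not_6325 : 6325 ∉ charDegrees Spor.Co3 := by
  rintro ⟨χ, h⟩
  have h : charDegree (χ : Spor.Co3 → ℂ) = 6325 := h
  have := mod7 χ
  omega

theorem not_dvd {o : ℕ} (h1 : 1 < o) (h2 : o < 529) (h3 : o ∣ 11616) : o ∉ charDegrees Spor.Co3 := by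
  rintro ⟨χ, h⟩
  have h : charDegree (χ : Spor.Co3 → ℂ) = o := h
  have hne : (χ : Spor.Co3 → ℂ) ≠ 1 := by
    intro h4
    rw [h4, one_deg] at h
    omega
  have h5 := deg529 χ hne (by rw [h, P, Nat.mod_eq_zero_of_dvd h3]; rfl)
  omega

theorem mem275 : 275 ∈ charDegrees Spor.Co3 := by
  obtain ⟨θ, hθ, hθd, -⟩ := Cfsg.Agent.H769.PB.CoThreeRank5.exists_275
  exact ⟨θ, hθd⟩

theorem mem23 : 23 ∈ charDegrees Spor.Co3 := by
  obtain ⟨μ, hμ⟩ := Cfsg.Agent.H843.IMC.Co3A.exists_mu
  have hμ23 : charDegree (μ : Spor.Co3 → ℂ) = 23 := by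
    have h4 := hμ 1
    have h6 : Cfsg.Agent.H419.LeechIrr.lchi Cfsg.Agent.H419.Spor.Co3.inc 1 = 24 := by
      rw [Cfsg.Agent.H419.LeechIrr.lchi, map_one, Cfsg.Agent.SigZeroCo2.Lin.tr8_one]
      norm_num
    rw [h6, Cfsg.Agent.Blocks.Basic.irr_one_eq_charDegree μ.2] at h4
    have : (24 : ℂ) = ((1 + charDegree (μ : Spor.Co3 → ℂ) : ℕ) : ℂ) := by rw [h4]; push_cast; ring
    have h9 : 24 = 1 + charDegree (μ : Spor.Co3 → ℂ) := by exact_mod_cast this
    omega
  exact ⟨μ, hμ23⟩

theorem gl_eq : H704.S8.gl 23 1 = 267168 := by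
  simp [H704.S8.gl, Finset.prod_range_succ]

theorem kill : H704.S8.Kill (charDegrees Spor.Co3) 23 := by
  constructor
  · intro p k hp h
    refine ⟨275, mem275, ?_, not_6325⟩
    have hk : k ≠ 0 := by rintro rfl; norm_num at h
    have h1 : p ∣ 23 := by rw [h]; exact dvd_pow_self p hk
    rw [(Nat.prime_dvd_prime_iff_eq hp (by norm_num)).1 h1]
    norm_num
  · intro q a hq ha hmod
    refine ⟨275, mem275, fun e he hde => ?_⟩
    have he1 : e = 275 := by
      obtain ⟨w, hw⟩ := he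
      have he0 : 0 < e := by
        rcases Nat.eq_zero_or_pos e with h | h
        · rw [h, zero_mul] at hw; omega
        · exact h
      have hdiv : 275 / e = w := by rw [hw]; exact Nat.mul_div_cancel_left w he0
      rw [hdiv] at hde
      rcases (Nat.dvd_prime (by norm_num)).1 hde with h | h
      · rw [h] at hw; omega
      · rw [h] at hw; omega
    subst he1
    refine ⟨not_6325, fun hdvd => ?_⟩
    have h1 : q ^ a ∣ 5 ^ 4 * 11 ^ 2 := by
      have h2 : (275 : ℕ) ^ 2 = 5 ^ 4 * 11 ^ 2 := by norm_num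
      rwa [h2] at hdvd
    have hqd : q ∣ 5 ^ 4 * 11 ^ 2 := (dvd_pow_self q ha.ne').trans h1
    have hq2 : q = 5 ∨ q = 11 := by
      rcases hq.dvd_mul.1 hqd with h | h
      · exact Or.inl ((Nat.prime_dvd_prime_iff_eq hq (by norm_num)).1 (hq.dvd_of_dvd_pow h))
      · exact Or.inr ((Nat.prime_dvd_prime_iff_eq hq (by norm_num)).1 (hq.dvd_of_dvd_pow h))
    rcases hq2 with rfl | rfl
    · have h2 : 5 ^ a ∣ 5 ^ 4 := Nat.Coprime.dvd_of_dvd_mul_right (Nat.Coprime.pow _ _ (by norm_num)) h1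
      have h3 : a ≤ 4 := (Nat.pow_dvd_pow_iff_le_right (by norm_num)).1 h2
      interval_cases a <;> exact absurd hmod (by decide)
    · have h2 : 11 ^ a ∣ 11 ^ 2 := Nat.Coprime.dvd_of_dvd_mul_left (Nat.Coprime.pow _ _ (by norm_num)) h1
      have h3 : a ≤ 2 := (Nat.pow_dvd_pow_iff_le_right (by norm_num)).1 h2
      interval_cases a <;> exact absurd hmod (by decide)

theorem sc : H704.S8.SC1 (charDegrees Spor.Co3) 23 := by
  refine H704.S8.SC1.of_coprime (by norm_num) ?_
  intro s c o t hs hc hsc ho1 ho2 hso hgl ht hot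
  have h1 : s ∣ 23 := (dvd_pow_self s (by omega)).trans hsc
  have h2 : s = 23 := (Nat.prime_dvd_prime_iff_eq hs (by norm_num)).1 h1
  subst h2
  have h3 : c = 1 := by
    have h4 : 23 ^ c ∣ 23 ^ 1 := by rwa [pow_one]
    have h5 : c ≤ 1 := (Nat.pow_dvd_pow_iff_le_right (by norm_num)).1 h4
    omega
  subst h3
  have h4 : t = 1 := by
    have : t ∣ 1 := by simpa using ht
    exact Nat.dvd_one.1 this
  subst h4
  rw [mul_one] at hot
  rw [gl_eq] at hgl
  refine not_dvd ho1 (by simpa using ho2) ?_ hot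
  have h5 : o ∣ 23 * 11616 := by simpa using hgl
  exact Nat.Coprime.dvd_of_dvd_mul_left ((Nat.Coprime.symm ((Nat.Prime.coprime_iff_not_dvd (by norm_num)).2 hso))) h5

/-- **NumMin for `Co3`.** -/
theorem num : H704.S8.NumMin (charDegrees Spor.Co3) :=
  ⟨23, mem23, by norm_num, fun _ hd => min hd, kill, sc⟩

/-- **SOLV for `Co3`.** -/
theorem solv_iso {X : Type v} [Group X] (hX : Spor.IsoCo3 X) {D : Set ℕ} (hD : H704.S8.Deg 1 X D) : H704.S8.Solv.{u} D := by
  obtain ⟨e⟩ := hX
  rcases hD with rfl | ⟨h, -⟩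
  · rw [H424.DegTools.charDegrees_congr e]
    exact H185.S8.solv_of_numMin num
  · exact absurd h (by norm_num)

end Cfsg.Agent.H497.S8.Co3
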