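import Cfsg.Agent.H133.Ore.DegCo3B
import Cfsg.Agent.H606.OreM.Exact
import Cfsg.Agent.H417.Two.Co3Seven
import Cfsg.Agent.S0187

/-!
# S4908, `Co3`: the degrees modulo 7 (helper497)

`mod7` : the degrees of `Co3` are `0, ± 1, ± 2` modulo 7 (`C(x) = 7 × S3` for `x` of order 7).
-/

set_option autoImplicit false

open Cfsg Subgroup

namespace Cfsg.Agent.H497.S8.Co3

open Cfsg.Agent.Characters.Core
open Cfsg.Agent.SmallSimple.ThetaSetup Cfsg.Agent.SmallSimple.ThetaOrtho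
open Cfsg.Agent.SmallSimple.TheoremC Cfsg.Agent.SmallSimple.TheoremCCor
open Cfsg.Agent.H653.Sieve Cfsg.Agent.H651.Two Cfsg.Agent.SmallSimple
open Cfsg.Agent.H133.Ore.Co3 (simple card fin not_comm)
open Cfsg.Agent.SporRec.Co3.Chain (G3)

universe u

theorem no42 (g : Spor.Co3) : orderOf g ≠ 42 := by
  have h := Cfsg.Agent.H417.Two.Co3Seven.no42 (Cfsg.Agent.SporRec.Co3.Model.equivCo3.symm g)
  rwa [MulEquiv.orderOf_eq] at h

theorem card_cent_equiv {A B : Type*} [Group A] [Group B] (e : A ≃* B) (x : A) :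
    Nat.card (centralizer ({e x} : Set B)) = Nat.card (centralizer ({x} : Set A)) := by
  refine (Nat.card_congr ?_).symm
  refine Equiv.subtypeEquiv e.toEquiv fun a => ?_
  rw [mem_centralizer_singleton_iff, mem_centralizer_singleton_iff]
  show _ ↔ e a * e x = e x * e a
  rw [← map_mul, ← map_mul]
  exact ⟨fun h => by rw [h], fun h => e.injective h⟩

theorem cent7 {x : Spor.Co3} (hx : orderOf x = 7) : Nat.card (centralizer ({x} : Set Spor.Co3)) = 7 * 6 := by
  have e := Cfsg.Agent.SporRec.Co3.Model.equivCo3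
  have h := Cfsg.Agent.H417.Two.Co3Seven.card_cent
    (x := Cfsg.Agent.SporRec.Co3.Model.equivCo3.symm x) (by rw [MulEquiv.orderOf_eq, hx])
  have h2 := card_cent_equiv Cfsg.Agent.SporRec.Co3.Model.equivCo3.symm x
  rw [h] at h2
  exact h2.symm

/-- a group of order six with four linear characters has an element of order six -/
theorem exists_six {K : Type*} [Group K] [Finite K] (hK : Nat.card K = 6) (s : Finset (IrrCharacter K))
    (hs : 4 ≤ s.card) : ∃ g : K, orderOf g = 6 := by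
  classical
  have : Finite (IrrCharacter K) := finite_irr
  have := Fintype.ofFinite (IrrCharacter K)
  have hsum := SmallSimple.DegreeData.sum_sq (G := K)
  have hall : ∀ χ : IrrCharacter K, charDegree (χ : K → ℂ) = 1 := by
    intro χ
    by_contra hne
    have hpos : 0 < charDegree (χ : K → ℂ) := H681.DegBasic.pos_of_mem (G := K) ⟨χ, rfl⟩
    have h2 : 2 ≤ charDegree (χ : K → ℂ) := by omega
    have h4 : 2 * 2 ≤ charDegree (χ : K → ℂ) ^ 2 := by rw [pow_two]; exact Nat.mul_le_mul h2 h2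
    have h5 : (s.erase χ).card ≤ ∑ ψ ∈ s.erase χ, charDegree (ψ : K → ℂ) ^ 2 := by
      rw [Finset.card_eq_sum_ones]
      refine Finset.sum_le_sum fun ψ _ => ?_
      have : 0 < charDegree (ψ : K → ℂ) := H681.DegBasic.pos_of_mem (G := K) ⟨ψ, rfl⟩
      exact pow_pos this 2
    have h6 : ∑ ψ ∈ insert χ (s.erase χ), charDegree (ψ : K → ℂ) ^ 2 ≤ ∑ ψ : IrrCharacter K, charDegree (ψ : K → ℂ) ^ 2 :=
      Finset.sum_le_sum_of_subset (Finset.subset_univ _)
    rw [Finset.sum_insert (Finset.notMem_erase χ s), hsum, hK] at h6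
    have h7 : s.card - 1 ≤ (s.erase χ).card := Finset.pred_card_le_card_erase
    omega
  have hcomm := S0187.result.2 (fun χ : IrrCharacter K => by
    have := Blocks.Knorr.charDegree_eq χ.2
    rw [this, hall χ, Nat.cast_one])
  obtain ⟨a, ha⟩ := exists_prime_orderOf_dvd_card' (G := K) 2 (by rw [hK]; norm_num)
  obtain ⟨b, hb⟩ := exists_prime_orderOf_dvd_card' (G := K) 3 (by rw [hK]; norm_num)
  refine ⟨a * b, ?_⟩
  rw [Commute.orderOf_mul_eq_mul_orderOf_of_coprime (hcomm a b) (by rw [ha, hb]; norm_num), ha, hb]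

theorem cases_mn : ∀ m n : ℕ, 0 < m → 0 < n → m ∣ 6 → n ∣ 6 → m * (n * n) ≤ 6 → ((n ≠ 1 ∨ m ≠ 1) → m * (n * n) + 1 ≤ 6) →
    ¬ (m = 3 ∧ n = 1) → (m = 1 ∧ n = 1) ∨ (m = 2 ∧ n = 1) ∨ (m = 1 ∧ n = 2) := by
  intro m n hm hn hm6 hn6 h1 h2 h3
  have : m ≤ 6 := Nat.le_of_dvd (by norm_num) hm6
  have : n ≤ 6 := Nat.le_of_dvd (by norm_num) hn6
  interval_cases m <;> interval_cases n <;> simp_all

/-- **The degrees modulo 7.** -/
theorem mod7 (χ : IrrCharacter Spor.Co3) : charDegree (χ : Spor.Co3 → ℂ) % 7 = 0 ∨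
    charDegree (χ : Spor.Co3 → ℂ) % 7 = 1 ∨ charDegree (χ : Spor.Co3 → ℂ) % 7 = 6 ∨
    charDegree (χ : Spor.Co3 → ℂ) % 7 = 2 ∨ charDegree (χ : Spor.Co3 → ℂ) % 7 = 5 := by
  classical
  have := simple
  have := fin
  have : Finite (IrrCharacter Spor.Co3) := finite_irr
  have := Fintype.ofFinite (IrrCharacter Spor.Co3)
  have h7 : Fact (Nat.Prime 7) := ⟨by norm_num⟩
  by_cases hχ : 7 ∣ charDegree (χ : Spor.Co3 → ℂ)
  · exact Or.inl (Nat.mod_eq_zero_of_dvd hχ)
  obtain ⟨x, hx⟩ := exists_prime_orderOf_dvd_card' (G := Spor.Co3) 7 (by rw [card]; norm_num)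
  obtain ⟨P, K, hP, hPx, hK, hKk, ht, hrel⟩ := H606.OreM.Exact.exists_data not_comm card hx (cent7 hx) 6 1
    (by decide +kernel)
  obtain ⟨θ, m, n, hm, hn, hm0, hn0, hme, hnk, hres, -⟩ := H606.OreM.Block.exists_theta hK hP hrel ht χ hχ
  have hsq := orb_sq_le hK θ.2
  have hdeg : charDegree (θ : K → ℂ) = n := by
    unfold charDegree
    rw [hn]; simp
  rw [hdeg, hKk, ← hm] at hsq
  rw [hKk] at hnk
  obtain ⟨hsq1, hsq2⟩ := hsq
  have hm6 : m ≤ 6 := Nat.le_of_dvd (by norm_num) hme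
  have hn6 : n ≤ 6 := Nat.le_of_dvd (by norm_num) hnk
  -- the orbit of size three
  have h31 : ¬ (m = 3 ∧ n = 1) := by
    rintro ⟨hm3, hn1⟩
    subst hn1
    have ho : (⟨1, isIrr_one⟩ : IrrCharacter K) ∉ orb P K (θ : K → ℂ) := by
      intro ho
      obtain ⟨g, hg, h⟩ := mem_orb.1 ho
      have hθ1 : (θ : K → ℂ) = 1 := by
        have h2 : tw (tw (θ : K → ℂ) g) g⁻¹ = (θ : K → ℂ) := by
          rw [← tw_mul hK _ hg (inv_mem hg), mul_inv_cancel, tw_one]
        have h3 : tw (θ : K → ℂ) g = 1 := h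
        rw [← h2, h3]
        exact tw_one_char hK (inv_mem hg)
      have hor : orb P K (1 : K → ℂ) = {⟨1, isIrr_one⟩} :=
        orb_of_stable isIrr_one fun n hn => tw_one_char hK hn
      rw [hθ1, hor, Finset.card_singleton] at hm
      omega
    obtain ⟨g, hg⟩ := exists_six hKk (insert (⟨1, isIrr_one⟩ : IrrCharacter K) (orb P K (θ : K → ℂ)))
      (by rw [Finset.card_insert_of_notMem ho, ← hm, hm3])
    have hgm := (hK g).1 g.2
    have hxP : x ∈ (P : Subgroup Spor.Co3) := by rw [hPx]; exact mem_zpowers x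
    have hc : Commute x (g : Spor.Co3) := (mem_centralizer_iff.1 hgm.1 x hxP)
    have ho : orderOf (x * (g : Spor.Co3)) = 42 := by
      rw [hc.orderOf_mul_eq_mul_orderOf_of_coprime (by rw [hx, Subgroup.orderOf_coe, hg]; norm_num), hx,
        Subgroup.orderOf_coe, hg]
    exact no42 _ ho
  generalize charDegree (χ : Spor.Co3 → ℂ) = d at *
  have hmn := cases_mn m n hm0 hn0 hme hnk hsq1 hsq2 h31
  rcases hmn with ⟨rfl, rfl⟩ | ⟨rfl, rfl⟩ | ⟨rfl, rfl⟩
  · push_cast at hres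
    omega
  · push_cast at hres
    omega
  · push_cast at hres
    omega

end Cfsg.Agent.H497.S8.Co3
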